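import Cfsg.Agent.Lib.Invol.Suz.Data
import Cfsg.Agent.Lib.Invol.Big.Build
import Cfsg.Agent.Lib.Grp.Components

/-!
# Two classes of involutions in groups of Suzuki type
-/

set_option autoImplicit false
set_option linter.unusedSectionVars false

namespace Cfsg.Agent.Invol.Suz

open Cfsg Cfsg.Agent.Invol.Big Cfsg.Agent.Classical.BinCoc Cfsg.Agent.Classical Cfsg.Agent.Spor.ExtraOut
  Cfsg.Agent.Invol.Big.Code

variable {G : Type*} [Group G] [Finite G]

/-- Bit positions. -/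
def pos6 : (Fin 2 ⊕ Fin 2) ⊕ Fin 2 → ℕ :=
  Sum.elim (Sum.elim (fun i => i.val) fun i => 2 + i.val) fun j => 4 + j.val

/-- A group of Suzuki type, in coordinates. -/
structure Setting (z : G) (Q : Subgroup G) (cd : G → ℕ) : Prop where
  code : Code K6 z Q cd
  big : 8 < Nat.card Q
  moves : Moves z Q
  card : Nat.card (Subgroup.centralizer ({z} : Set G)) = 405 * (2 ^ sd.lev * Nat.card Q)

theorem setting_of (z : G) (hz : orderOf z = 2) (Q : Subgroup (Subgroup.centralizer ({z} : Set G))) [Q.Normal]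
    (hF : generalizedFittingSubgroup (Subgroup.centralizer ({z} : Set G)) = Q) (hQ : IsExtraspecial 2 Q)
    (hcard : Nat.card Q = 2 ^ 7)
    (e : (Subgroup.centralizer ({z} : Set G)) ⧸ Q ≃* Omega (ZMod 2) (quadFormMinus 2 (ZMod 2) 1 1))
    (hnwc : ∃ g : G, (∃ hq : g * z * g⁻¹ ∈ Subgroup.centralizer ({z} : Set G),
      (⟨g * z * g⁻¹, hq⟩ : Subgroup.centralizer ({z} : Set G)) ∈ Q) ∧ g * z * g⁻¹ ≠ z) :
    ∃ cd : G → ℕ, Setting z (Q.map (Subgroup.centralizer ({z} : Set G)).subtype) cd := by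
  classical
  have hcq : Subgroup.centralizer (Q : Set (Subgroup.centralizer ({z} : Set G))) ≤ Q := by
    have := Cfsg.Agent.Grp.centralizer_gfitting_le (G := (Subgroup.centralizer ({z} : Set G)))
    rwa [hF] at this
  have hι : Fintype.card ((Fin 2 ⊕ Fin 2) ⊕ Fin 2) = 2 * 3 := by simp
  have hG : OrthAut.GenQ (ZMod 2) ((Fin 2 ⊕ Fin 2) ⊕ Fin 2) := OrthAut.genQ_of_card (Or.inr (by rw [hι]; norm_num))
  have hab : OrthAut.Aniso (ZMod 2) (1 : ZMod 2) 1 := by unfold OrthAut.Aniso; decide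
  have hO : Nat.card (isometryGroup (ZMod 2) ⇑(qfMinus 2 (ZMod 2) 1 1)) = 51840 := by
    rw [natCard_isometryGroup]
    have := order_qfMinus (F := ZMod 2) 2 hab
    simp [Finset.prod_range_succ, ZMod.card] at this
    exact_mod_cast this
  have hΩ : Nat.card (Omega (ZMod 2) (quadFormMinus 2 (ZMod 2) 1 1)) = 25920 := by
    rw [← coe_qfMinus 2 (1 : ZMod 2) 1]
    have h1 := (Omega (ZMod 2) ⇑(qfMinus 2 (ZMod 2) 1 1)).card_mul_index
    rw [OrthAut.index_omega_two (nondegenerate_qfMinus 2 hab) hG (show (2 : ZMod 2) = 0 from rfl) (by simp), hO] at h1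
    omega
  have hidx : Q.index = 25920 := by
    rw [Subgroup.index_eq_card, Nat.card_congr e.toEquiv, hΩ]
  obtain ⟨z0, π, q, d⟩ := exists_data (ι := (Fin 2 ⊕ Fin 2) ⊕ Fin 2) hQ (by rw [hι, hcard]; norm_num)
  by_cases hhalf : ∃ U, OrthAut.Half q U
  · exfalso
    obtain ⟨U, hU⟩ := hhalf
    obtain ⟨f, hf⟩ := OrthAut.plus_of_half (k := 3) (by norm_num) hι d.nd hU
    have d' := d.transport f hf
    have h1 := Subgroup.card_subgroup_dvd_card (rho z Q d').range
    have hP : Nat.card (isometryGroup (ZMod 2) ⇑(qfPlus 3 (ZMod 2))) = 40320 := by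
      rw [natCard_isometryGroup]
      have := order_qfPlus (F := ZMod 2) 2
      simp [Finset.prod_range_succ, ZMod.card] at this
      exact_mod_cast this
    rw [card_range z Q hcq d', hidx, hP] at h1
    norm_num at h1
  obtain ⟨g, hg⟩ := OrthAut.iso_of_not_half (k := 2) (by rw [hι]) (qfMinus 2 (ZMod 2) 1 1) q
    (nondegenerate_qfMinus _ hab) d.nd (OrthAut.not_half_qfMinus hab) hhalf
  have d' := d.transport (Matrix.GeneralLinearGroup.toLin g).toLinearEquiv hg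
  have hle := omega_le_range z Q d' (by rw [card_range z Q hcq d', hidx, hO])
  obtain ⟨cd, hcd⟩ := code_of z hz Q hcq d' hle hG 6 qb pos6 (by rw [coe_qfMinus]; decide +kernel)
    (by decide +kernel) (by decide +kernel)
  refine ⟨cd, hcd, ?_, ?_, ?_⟩
  · rw [← Nat.card_congr (Q.equivMapOfInjective _ Subtype.coe_injective).toEquiv, hcard]; norm_num
  · obtain ⟨a, ⟨hq, hQ'⟩, hne⟩ := hnwc
    exact ⟨a, ⟨_, hQ', rfl⟩, hne⟩
  · rw [← Nat.card_congr (Q.equivMapOfInjective _ Subtype.coe_injective).toEquiv, card_centralizer z Q hcq d',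
      card_range z Q hcq d', hidx, show sd.lev = 6 from rfl, hcard]; norm_num

/-- The two classes. -/
theorem two_classes {z : G} {Q : Subgroup G} {cd : G → ℕ} (S : Setting z Q cd) :
    ∃ a b : G, orderOf a = 2 ∧ orderOf b = 2 ∧ ¬ IsConj a b ∧
      ∀ x : G, orderOf x = 2 → IsConj x a ∨ IsConj x b := by
  classical
  haveI : Fact (Nat.Prime 2) := ⟨Nat.prime_two⟩
  obtain ⟨h, h8, hm, hcardC⟩ := S
  obtain ⟨H, hH, hact⟩ := h.exists_syl syl_ok (by decide : Odd 405) hcardC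
  have hcls : ∀ {x : G}, x * z = z * x → x * x = 1 → x ∉ Q →
      ∃ c, c * z = z * c ∧ (h.Acts (c * x * c⁻¹) (wd K6 wA) ∨ h.Acts (c * x * c⁻¹) (wd K6 ed.sw)) := by
    intro x hx hx2 hxQ
    obtain ⟨c, hc, σ, hσ, hA⟩ := h.classify hH hact cls_ok hx hx2 hxQ
    refine ⟨c, hc, ?_⟩
    rcases List.mem_cons.1 hσ with rfl | hσ
    · exact Or.inl hA
    · rw [List.mem_singleton.1 hσ] at hA; exact Or.inr hA
  have hsq : ∀ {x : G} (c : G), x * x = 1 → c * x * c⁻¹ * (c * x * c⁻¹) = 1 := fun c hx => by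
    rw [conj_mul, hx, mul_one, mul_inv_cancel]
  have hbig : ∀ y : G, y * z = z * y → y * y = 1 → y ∉ Q →
      16 ≤ Nat.card (Q ⊓ Subgroup.centralizer ({y} : Set G) : Subgroup G) := by
    intro y hy hy2 hyQ
    obtain ⟨c, hc, hA⟩ := hcls hy hy2 hyQ
    have h16 : 16 ≤ Nat.card (Q ⊓ Subgroup.centralizer ({c * y * c⁻¹} : Set G) : Subgroup G) := by
      rcases hA with hA | hA
      · exact h.card_cent bas_A ker_A hA (hsq c hy2)
      · exact h.card_cent bas_C ker_C hA (hsq c hy2)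
    refine h16.trans (Nat.card_le_card_of_injective (fun w => (⟨c⁻¹ * w.1 * c, ?_, ?_⟩ :
      (Q ⊓ Subgroup.centralizer ({y} : Set G) : Subgroup G))) fun a b e => Subtype.ext ?_)
    · simpa using h.ext.norm c⁻¹ (comm_inv hc) w.1 w.2.1
    · refine Subgroup.mem_centralizer_singleton_iff.2 ?_
      obtain ⟨w, hw⟩ := w
      have := Subgroup.mem_centralizer_singleton_iff.1 hw.2
      calc c⁻¹ * w * c * y = c⁻¹ * (w * (c * y * c⁻¹)) * c := by group
        _ = c⁻¹ * ((c * y * c⁻¹) * w) * c := by rw [this]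
        _ = y * (c⁻¹ * w * c) := by group
    · simpa using congrArg Subtype.val e
  have hnot : ∀ {s : G}, h.Acts s (wd K6 ed.sw) → s * s = 1 → ¬ IsConj z s := fun hs hs2 =>
    h.notConj h8 pair_ok hm wok_C ne_C star_ok starPair_ok v1_ok bas_C bound_C hbig hs hs2
  -- a member of the first kind conjugate to `z`, also after multiplying by `z`
  obtain ⟨g, hg, hne⟩ := hm
  have hm' : Moves z Q := ⟨g, hg, hne⟩
  obtain ⟨y, hyc, hyz, hy2, hyQ⟩ := h.exists_outside h8 pair_ok hg hne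
  have hy1 : y ≠ 1 := fun e => hyQ (e ▸ one_mem _)
  obtain ⟨c, hc, hyA⟩ := hcls hyz hy2 hyQ
  have hzy : IsConj z (c * y * c⁻¹) :=
    (h.isConj_z_Qc pair_ok hm' hyc hy2 hy1).trans (isConj_iff.2 ⟨c, rfl⟩)
  have hyA : h.Acts (c * y * c⁻¹) (wd K6 wA) := hyA.resolve_right fun hC => hnot hC (hsq c hy2) hzy
  set s1 := c * y * c⁻¹ with hs1
  have hs12 : s1 * s1 = 1 := hsq c hy2
  have hs1z : IsConj z (s1 * z) := by
    have hg' : (c * g) * z * (c * g)⁻¹ ∈ Q := by
      rw [show c * g * z * (c * g)⁻¹ = c * (g * z * g⁻¹) * c⁻¹ by group]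
      exact h.ext.norm c hc _ hg
    have hs1Q : s1 ∈ Qc Q (c * g) := mem_Qc.2 (by
      rw [hs1, show (c * g)⁻¹ * (c * y * c⁻¹) * (c * g) = g⁻¹ * y * g by group]
      exact mem_Qc.1 hyc)
    refine h.isConj_z_Qc pair_ok hm' (mul_mem hs1Q (h.symm h8 hg')) ?_ ?_
    · calc s1 * z * (s1 * z) = s1 * (z * s1) * z := by group
        _ = s1 * (s1 * z) * z := by rw [hyA.1]
        _ = (s1 * s1) * (z * z) := by group
        _ = 1 := by rw [hs12, h.ext.zz, one_mul]
    · intro e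
      exact hyA.not_mem ne_A (by rw [eq_inv_of_mul_eq_one_left e]; exact inv_mem h.ext.mem)
  -- the second kind
  obtain ⟨s0, hs0, hs0o⟩ := h.exists_invol wok_C wok_gC inv_C ne_C bas_C lift_C
  have hs02 : s0 * s0 = 1 := by rw [← pow_two, ← hs0o, pow_orderOf_eq_one]
  refine ⟨z, s0, h.ord, hs0o, hnot hs0 hs02, fun x hx => ?_⟩
  have hx2 : x * x = 1 := by rw [← pow_two, ← hx, pow_orderOf_eq_one]
  have hx1 : x ≠ 1 := fun e => by rw [e, orderOf_one] at hx; exact absurd hx (by norm_num)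
  obtain ⟨a, ha⟩ := hH.global h hx2
  set w := a * x * a⁻¹ with hw
  have hxw : IsConj x w := isConj_iff.2 ⟨a, rfl⟩
  have hwz : w * z = z * w := Subgroup.mem_centralizer_singleton_iff.1 (hH.le ha)
  have hw2 : w * w = 1 := hsq a hx2
  by_cases hwQ : w ∈ Q
  · refine Or.inl (hxw.trans ?_)
    by_cases hwz' : w = z
    · rw [hwz']
    · exact (h.isConj_z pair_ok hm' ⟨hwQ, hw2, fun e => hx1 (conj_eq_one_iff.1 (hw ▸ e)), hwz'⟩).symm
  obtain ⟨b, hb, hbA⟩ := hcls hwz hw2 hwQ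
  have hxb : IsConj x (b * w * b⁻¹) := hxw.trans (isConj_iff.2 ⟨b, rfl⟩)
  rcases hbA with hbA | hbA
  · refine Or.inl (hxb.trans ?_)
    rcases h.conj_or wok_gA wok_gA2 bas_A coset_A hyA hs12 hbA (hsq b hw2) with e | e
    · exact e.symm.trans hzy.symm
    · exact e.symm.trans hs1z.symm
  · refine Or.inr (hxb.trans ?_)
    rcases h.conj_or wok_gC wok_gC2 bas_C coset_C hs0 hs02 hbA (hsq b hw2) with e | e
    · exact e.symm
    · exact e.symm.trans (h.conj_mul_z bas_C nz_C hs0 hs02).symm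

end Cfsg.Agent.Invol.Suz
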