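import Cfsg.Agent.Lib.Invol.Big.Excl
import Cfsg.Agent.Lib.Invol.Big.Sylow

/-!
# Data for an elliptic orthogonal group in six variables over two elements
-/

set_option autoImplicit false

namespace Cfsg.Agent.Invol.Suz

open Cfsg.Agent.Invol.Big

/-- The form. -/
def qb (a : ℕ) : Bool := (10619368485066599584 : ℕ).testBit a

/-- The coded space. -/
def K6 : Classical.BinCoc.Cert := bare 6 qb

/-- The first action. -/
def wA : List ℕ := [50, 48, 7, 5]

/-- A basis of its fixed vectors. -/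
def basA : List ℕ := [2, 5, 17, 33]

/-- An element turning it. -/
def gamA : List ℕ := [17, 5]

/-- An element turning the second action. -/
def gamC : List ℕ := [36, 11]

/-- The pair data. -/
def pd : PairData where
  v0 := 1
  trs := [(1, []), (2, [14, 13]), (3, [7, 5]), (4, [10, 5]), (6, [10, 7]), (8, [14, 7]), (9, [13, 5]), (12, [13, 7]), (15, [14, 5]), (21, [20, 5]), (23, [22, 5]), (26, [28, 7]), (27, [31, 5]), (29, [28, 5]), (30, [31, 7]), (37, [36, 5]), (39, [38, 5]), (42, [44, 7]), (43, [47, 5]), (45, [44, 5]), (46, [47, 7]), (53, [52, 5]), (55, [54, 5]), (58, [60, 7]), (59, [63, 5]), (61, [60, 5]), (62, [63, 7])]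
  dl := [(2, [16, 10]), (3, [16, 10]), (8, [16, 10]), (9, [16, 10]), (26, [18, 10]), (27, [18, 10]), (42, [16, 10]), (43, [16, 10]), (58, [16, 10]), (59, [16, 10])]
  pa := 2
  pb := 8

/-- The exclusion data. -/
def ed : ExclData where
  sw := [17, 10]
  bas := [1, 10, 16, 36]
  v1 := 27
  hyp := [1, 6, 10, 16, 34]
  f := 2
  star := [[], [10, 7], [41, 10], [34, 10]]
  pairs := [[11, 7], [36, 7], [47, 7], [41, 7], [34, 7], [35, 34]]

/-- The Sylow data. -/
def sd : SylData where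
  gens := [[17, 10], [50, 41], [50, 48, 7, 5]]
  elems := [[], [0], [1], [2], [0, 2], [1, 0], [1, 2], [2, 0], [2, 1], [0, 2, 0], [0, 2, 1], [1, 0, 2], [1, 2, 0], [1, 2, 1], [2, 0, 2], [2, 1, 0], [2, 1, 2], [0, 2, 1, 0], [0, 2, 1, 2], [1, 0, 2, 0], [1, 0, 2, 1], [1, 2, 0, 2], [1, 2, 1, 0], [2, 0, 2, 0], [2, 0, 2, 1], [2, 1, 0, 2], [2, 1, 2, 0], [2, 1, 2, 1], [0, 2, 1, 0, 2], [0, 2, 1, 2, 0], [0, 2, 1, 2, 1], [1, 0, 2, 1, 0], [1, 2, 0, 2, 0], [1, 2, 0, 2, 1], [1, 2, 1, 0, 2], [2, 0, 2, 1, 0], [2, 0, 2, 1, 2], [2, 1, 0, 2, 0], [2, 1, 0, 2, 1], [2, 1, 2, 0, 2], [2, 1, 2, 1, 0], [0, 2, 1, 0, 2, 0], [0, 2, 1, 2, 0, 2], [0, 2, 1, 2, 1, 0], [1, 2, 0, 2, 1, 0], [1, 2, 0, 2, 1, 2], [1, 2, 1, 0, 2, 0], [2, 0, 2, 1, 0, 2], [2, 0, 2, 1, 2, 0], [2, 0, 2, 1, 2, 1], [2, 1, 0, 2, 1, 0], [2, 1, 2, 0, 2, 0], [2, 1, 2, 0, 2, 1], [2, 1, 2, 1, 0, 2], [0, 2, 1, 2, 0, 2, 0], [1, 2, 0, 2, 1, 2, 0], [2, 0, 2, 1, 0, 2, 0], [2, 0, 2, 1, 2, 0, 2],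 [2, 0, 2, 1, 2, 1, 0], [2, 1, 2, 0, 2, 1, 0], [2, 1, 2, 0, 2, 1, 2], [2, 1, 2, 1, 0, 2, 0], [2, 0, 2, 1, 2, 0, 2, 0], [2, 1, 2, 0, 2, 1, 2, 0]]
  conj := [[], [10, 5], [10, 7], [13, 5], [13, 7], [25, 5], [28, 5], [32, 14], [32, 14, 7, 5], [32, 14, 13, 5], [32, 19, 14, 5], [32, 25, 14, 5], [35, 7], [35, 10], [38, 19], [41, 7], [48, 5], [48, 10, 7, 5], [48, 13, 7, 5], [48, 19, 7, 5], [48, 19, 10, 5], [60, 18], [60, 18, 7, 5], [60, 18, 10, 5], [60, 18, 13, 5], [60, 20, 18, 5]]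
  lev := 6

theorem wok_A : Wok K6 wA = true := by decide +kernel
theorem wok_gA : Wok K6 gamA = true := by decide +kernel
theorem wok_gA2 : Wok K6 (gamA ++ gamA) = true := by decide +kernel
theorem wok_C : Wok K6 ed.sw = true := by decide +kernel
theorem wok_gC : Wok K6 gamC = true := by decide +kernel
theorem wok_gC2 : Wok K6 (gamC ++ gamC) = true := by decide +kernel
theorem ne_A : (pts K6).any (fun a => wd K6 wA a != a) = true := by decide +kernel
theorem ne_C : (pts K6).any (fun a => wd K6 ed.sw a != a) = true := by decide +kernel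
theorem inv_C : (pts K6).all (fun a => wd K6 ed.sw (wd K6 ed.sw a) == a && decide (wd K6 ed.sw a < 2 ^ K6.n)) = true := by
  decide +kernel
theorem bas_A : chkBas K6 (wd K6 wA) basA = true := by decide +kernel
theorem bas_C : chkBas K6 (wd K6 ed.sw) ed.bas = true := by decide +kernel
theorem pair_ok : chkPair K6 pd = true := by decide +kernel
theorem lift_C : chkLift K6 (wd K6 ed.sw) (wd K6 gamC) ed.bas = true := by decide +kernel
theorem coset_A : chkCoset K6 (wd K6 wA) (wd K6 gamA) (wd K6 (gamA ++ gamA)) basA = true := by decide +kernel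
theorem coset_C : chkCoset K6 (wd K6 ed.sw) (wd K6 gamC) (wd K6 (gamC ++ gamC)) ed.bas = true := by decide +kernel
theorem nz_C : chkNZ K6 (wd K6 ed.sw) ed.bas = true := by decide +kernel
theorem ker_A : chkKer K6 (wd K6 wA) basA = true := by decide +kernel
theorem ker_C : chkKer K6 (wd K6 ed.sw) ed.bas = true := by decide +kernel
theorem star_ok : chkStar K6 ed = true := by decide +kernel
theorem starPair_ok : chkStarPair K6 ed = true := by decide +kernel
theorem v1_ok : chkV1 K6 ed = true := by decide +kernel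
theorem bound_C : chkN K6 (wd K6 ed.sw) ed.bas = true := by decide +kernel
theorem syl_ok : chkSyl K6 sd = true := by decide +kernel
theorem cls_ok : chkCls K6 sd [wA, ed.sw] = true := by decide +kernel

end Cfsg.Agent.Invol.Suz
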